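import Groth.Prelude.Def_AGF
import Groth.Agent.Lib.GenSubgrp14.Basic
import Groth.Agent.Lib.SecComp6.Univ.Dvr
import Mathlib.AlgebraicGeometry.Morphisms.QuasiFinite

/-!
# Quotients by open-ranged subgroups are finite
-/

set_option autoImplicit false
set_option backward.isDefEq.respectTransparency false
set_option linter.style.haveILetI false

universe u

open CategoryTheory CategoryTheory.Limits MonoidalCategory CartesianMonoidalCategory MonObj GrpObj
open AlgebraicGeometry Topology

namespace GrothLib.FinQuot19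

variable {k : Type u} [Field k] {G H : Over (Spec (CommRingCat.of k))} [GrpObj G]

theorem isOpen_range_whiskerLeft (A : Over (Spec (CommRingCat.of k))) (f : H ⟶ G)
    (hf : IsOpen (Set.range f.left.base)) : IsOpen (Set.range (A ◁ f).left.base) := by
  have : Set.range (A ◁ f).left.base = (snd A G).left.base ⁻¹' Set.range f.left.base := by
    refine le_antisymm ?_ ?_
    · rintro _ ⟨z, rfl⟩
      refine ⟨(snd A H).left.base z, ?_⟩
      rw [← Scheme.Hom.comp_apply, ← Scheme.Hom.comp_apply,
        (GrothLib.GrpSchField.whiskerLeft_snd_isPullback A f).w]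
    · rintro q ⟨p, hp⟩
      obtain ⟨r, hr⟩ := GrothLib.GenSubgrp14.range_lift_snd A f q p hp.symm
      exact ⟨r, hr⟩
  rw [this]
  exact hf.preimage (snd A G).left.continuous

/-- The shear automorphism `(g, h) ↦ (g, g h)` restricted to `G × H` has open range. -/
theorem isOpen_range_graph (i : H ⟶ G) (hi : IsOpen (Set.range i.left.base)) :
    IsOpen (Set.range (lift (fst G H) ((G ◁ i) ≫ μ[G])).left.base) := by
  let e := GrothLib.GrpSchField.shear (GrothLib.GrpSchField.mulAction G)
  have he : lift (fst G H) ((G ◁ i) ≫ μ[G]) = (G ◁ i) ≫ e.hom := by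
    refine (CartesianMonoidalCategory.hom_ext _ _ ?_ ?_)
    · simp [e, GrothLib.GrpSchField.shear]
    · simp [e, GrothLib.GrpSchField.shear, GrothLib.GrpSchField.mulAction]
  haveI : IsIso e.hom.left := GrothLib.GrpSchField.isIso_left e.hom
  rw [he, Over.comp_left, Scheme.Hom.comp_base, TopCat.coe_comp, Set.range_comp]
  exact e.hom.left.homeomorph.isOpenMap _ (isOpen_range_whiskerLeft G i hi)

variable [GrpObj H] {X : Over (Spec (CommRingCat.of k))} {i : H ⟶ G} {a : AlgGrp.Action G X}
  {o : 𝟙_ (Over (Spec (CommRingCat.of k))) ⟶ X}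

theorem one_comp_orbitMap (a : AlgGrp.Action G X) (o : 𝟙_ (Over (Spec (CommRingCat.of k))) ⟶ X) :
    η[G] ≫ a.orbitMap o = o := by
  have h : η[G] ≫ toUnit G ≫ o = o := by
    rw [← Category.assoc, toUnit_unique (η[G] ≫ toUnit G) (𝟙 _), Category.id_comp]
  rw [AlgGrp.Action.orbitMap, comp_lift_assoc, Category.comp_id, h]
  have h1 : η[G] = (1 : 𝟙_ (Over (Spec (CommRingCat.of k))) ⟶ G) := by
    rw [Hom.one_def, toUnit_unique (toUnit (𝟙_ (Over (Spec (CommRingCat.of k))))) (𝟙 _), Category.id_comp]
  rw [h1]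
  exact GrothLib.GrpSchField.act_one a o

/-- A point whose image agrees with the origin lies in the subgroup. -/
theorem range_eq_preimage (hX : AGF.IsQuotient i X a o) [IsMonHom i] :
    Set.range i.left.base = (a.orbitMap o).left.base ⁻¹' Set.range o.left.base := by
  obtain ⟨-, -, -, hpb⟩ := hX
  let q := a.orbitMap o
  have ho : ∀ T : Over (Spec (CommRingCat.of k)), toUnit T ≫ o = (toUnit T ≫ η[G]) ≫ q := fun T => by
    rw [Category.assoc]; exact congrArg (toUnit T ≫ ·) (one_comp_orbitMap a o).symm
  refine le_antisymm ?_ ?_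
  · rintro _ ⟨x, rfl⟩
    have h1 : i ≫ q = toUnit H ≫ o := by
      have := congrArg (lift (toUnit H ≫ η[G]) (𝟙 H) ≫ ·) hpb.w
      simp only [lift_fst_assoc] at this
      rw [ho]
      refine Eq.trans ?_ this.symm
      rw [← Category.assoc]
      congr 1
      rw [lift_whiskerLeft_assoc, Category.id_comp, ← Hom.mul_def, ← Hom.one_def, _root_.one_mul]
    refine ⟨(toUnit H).left.base x, ?_⟩
    rw [← Scheme.Hom.comp_apply, ← Scheme.Hom.comp_apply, ← Over.comp_left, ← Over.comp_left, h1]
  · rintro g ⟨p, hp⟩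
    obtain ⟨z, hz1, -⟩ := Scheme.Pullback.exists_preimage_pullback (f := q.left) (g := o.left) g p hp.symm
    let T : Over (Spec (CommRingCat.of k)) := Over.mk (pullback.fst q.left o.left ≫ G.hom)
    let b : T ⟶ G := Over.homMk (pullback.fst q.left o.left)
    have hb : b ≫ q = toUnit T ≫ o := Over.OverMorphism.ext <| by
      show pullback.fst q.left o.left ≫ q.left = _
      rw [pullback.condition, Over.comp_left]
      congr 1
      have := Over.w (toUnit T)
      have h2 : pullback.snd q.left o.left ≫ (o.left ≫ X.hom) = pullback.fst q.left o.left ≫ G.hom := by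
        rw [← pullback.condition_assoc, Over.w q]
      have h3 : o.left ≫ X.hom = 𝟙 _ := Over.w o
      rw [h3] at h2
      exact ((Category.comp_id _).symm.trans h2).trans (this.symm.trans (Category.comp_id _))
    let l := hpb.lift (toUnit T ≫ η[G]) b ((ho T).symm.trans hb.symm)
    have hl1 : l ≫ fst G H = toUnit T ≫ η[G] := hpb.lift_fst _ _ _
    have hl2 : l ≫ (G ◁ i) ≫ μ[G] = b := hpb.lift_snd _ _ _
    have hl : (l ≫ snd G H) ≫ i = b := by
      rw [← hl2, ← lift_comp_fst_snd l, lift_whiskerLeft_assoc, lift_snd, ← Hom.mul_def, hl1,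
        ← Hom.one_def, _root_.one_mul]
    refine GrothLib.GenSubgrp14.range_subset_of_comp (l ≫ snd G H) i ⟨(z : T.left), ?_⟩
    rw [hl]; exact hz1

/-- If the subgroup is open on spaces then so is the diagonal of the quotient. -/
theorem isOpen_range_diag [LocallyOfFiniteType G.hom] (hX : AGF.IsQuotient i X a o)
    (hi : IsOpen (Set.range i.left.base)) :
    IsOpen (Set.range (lift (𝟙 X) (𝟙 X)).left.base) := by
  obtain ⟨hlft, hflat, hsurj, hpb⟩ := hX
  haveI := hlft; haveI := hflat; haveI := hsurj
  let q := a.orbitMap o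
  haveI : IsLocallyNoetherian X.left := LocallyOfFiniteType.isLocallyNoetherian X.hom
  haveI : LocallyOfFiniteType q.left := by
    haveI : LocallyOfFiniteType (q.left ≫ X.hom) := by rw [Over.w q]; infer_instance
    exact locallyOfFiniteType_of_comp q.left X.hom
  haveI : LocallyOfFinitePresentation q.left := inferInstance
  haveI : UniversallyOpen q.left := inferInstance
  have h1 : UniversallyOpen (q ⊗ₘ q).left ∧ Surjective (q ⊗ₘ q).left := by
    rw [MonoidalCategory.tensorHom_def, Over.comp_left]
    have s1 := ((GrothLib.GrpSchField.isPullback_whiskerRight q G).map (Over.forget _)).flip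
    have s2 := (GrothLib.GrpSchField.whiskerLeft_snd_isPullback X q).flip
    haveI : UniversallyOpen (q ▷ G).left := MorphismProperty.of_isPullback (P := @UniversallyOpen) s1 ‹_›
    haveI : Surjective (q ▷ G).left := MorphismProperty.of_isPullback (P := @Surjective) s1 hsurj
    haveI : UniversallyOpen (X ◁ q).left := MorphismProperty.of_isPullback (P := @UniversallyOpen) s2 ‹_›
    haveI : Surjective (X ◁ q).left := MorphismProperty.of_isPullback (P := @Surjective) s2 hsurj
    exact ⟨inferInstance, inferInstance⟩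
  haveI := h1.1; haveI := h1.2
  let m := lift (fst G H) ((G ◁ i) ≫ μ[G])
  have hm : m ≫ (q ⊗ₘ q) = (fst G H ≫ q) ≫ lift (𝟙 X) (𝟙 X) := by
    rw [lift_map, comp_lift, Category.comp_id, hpb.w]
  have heq : Set.range (lift (𝟙 X) (𝟙 X)).left.base = (q ⊗ₘ q).left.base '' Set.range m.left.base := by
    refine le_antisymm ?_ ?_
    · rintro _ ⟨y, rfl⟩
      obtain ⟨g, hg⟩ := (q ⊗ₘ q).left.surjective ((lift (𝟙 X) (𝟙 X)).left.base y)
      refine ⟨g, ?_, hg⟩
      let Δ := lift (𝟙 X) (𝟙 X)
      obtain ⟨z, hz1, -⟩ := Scheme.Pullback.exists_preimage_pullback (f := (q ⊗ₘ q).left) (g := Δ.left) g y hg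
      let T : Over (Spec (CommRingCat.of k)) :=
        Over.mk (pullback.fst (q ⊗ₘ q).left Δ.left ≫ (G ⊗ G).hom)
      let b : T ⟶ G ⊗ G := Over.homMk (pullback.fst (q ⊗ₘ q).left Δ.left)
      let c : T ⟶ X := Over.homMk (pullback.snd (q ⊗ₘ q).left Δ.left) (by
        show pullback.snd (q ⊗ₘ q).left Δ.left ≫ X.hom = pullback.fst (q ⊗ₘ q).left Δ.left ≫ (G ⊗ G).hom
        rw [← Over.w (q ⊗ₘ q), ← Over.w Δ, pullback.condition_assoc])
      have hbc : b ≫ (q ⊗ₘ q) = c ≫ Δ := Over.OverMorphism.ext pullback.condition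
      have e1 := congrArg (· ≫ fst X X) hbc
      have e2 := congrArg (· ≫ snd X X) hbc
      simp only [Δ, Category.assoc, tensorHom_fst, tensorHom_snd, lift_fst, lift_snd] at e1 e2
      let l := hpb.lift (b ≫ fst G G) (b ≫ snd G G) (by rw [Category.assoc, Category.assoc]; exact e1.trans e2.symm)
      have hl : l ≫ m = b := by
        rw [comp_lift, hpb.lift_fst, hpb.lift_snd, lift_comp_fst_snd]
      refine GrothLib.GenSubgrp14.range_subset_of_comp l m ⟨z, ?_⟩
      rw [hl]; exact hz1
    · rintro _ ⟨_, ⟨w, rfl⟩, rfl⟩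
      refine GrothLib.GenSubgrp14.range_subset_of_comp (fst G H ≫ q) (lift (𝟙 X) (𝟙 X)) ⟨w, ?_⟩
      rw [← hm, Over.comp_left, Scheme.Hom.comp_apply]
  rw [heq]
  exact (q ⊗ₘ q).left.isOpenMap _ (isOpen_range_graph i hi)

omit [GrpObj G] [GrpObj H] in
/-- A scheme over a field with open diagonal is discrete. -/
theorem discreteTopology_of_isOpen_range_diag
    (hd : IsOpen (Set.range (lift (𝟙 X) (𝟙 X)).left.base)) : DiscreteTopology X.left := by
  refine discreteTopology_iff_forall_isOpen.mpr fun s => ?_
  rw [← Set.biUnion_of_singleton s]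
  refine isOpen_biUnion fun x _ => ?_
  let P : Over (Spec (CommRingCat.of k)) := Over.mk (X.left.fromSpecResidueField x ≫ X.hom)
  let e : P ⟶ X := Over.homMk (X.left.fromSpecResidueField x)
  have hex : ∀ p : P.left, e.left.base p = x := fun p => Scheme.fromSpecResidueField_apply x p
  have himg : (snd P X).left.base '' ((e ▷ X).left.base ⁻¹' Set.range (lift (𝟙 X) (𝟙 X)).left.base) = {x} := by
    have e1 : (e ▷ X).left ≫ (fst X X).left = (fst P X).left ≫ e.left := by
      rw [← Over.comp_left, ← Over.comp_left, whiskerRight_fst]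
    have e2 : (e ▷ X).left ≫ (snd X X).left = (snd P X).left := by
      rw [← Over.comp_left, whiskerRight_snd]
    have d1 : (lift (𝟙 X) (𝟙 X)).left ≫ (fst X X).left = 𝟙 _ := by
      rw [← Over.comp_left, lift_fst]; rfl
    have d2 : (lift (𝟙 X) (𝟙 X)).left ≫ (snd X X).left = 𝟙 _ := by
      rw [← Over.comp_left, lift_snd]; rfl
    refine le_antisymm ?_ ?_
    · rintro _ ⟨y, ⟨w, hw⟩, rfl⟩
      have hw1 : w = (e.left.base ((fst P X).left.base y)) := by
        rw [← Scheme.Hom.comp_apply, ← e1, Scheme.Hom.comp_apply, ← hw, ← Scheme.Hom.comp_apply, d1]; rfl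
      have hw2 : w = (snd P X).left.base y := by
        rw [← e2, Scheme.Hom.comp_apply, ← hw, ← Scheme.Hom.comp_apply, d2]; rfl
      rw [← hw2, hw1, hex]
      exact rfl
    · intro y hy
      rw [Set.mem_singleton_iff] at hy
      rw [hy]
      obtain ⟨p⟩ : Nonempty P.left := inferInstanceAs (Nonempty (PrimeSpectrum (X.left.residueField x)))
      refine ⟨(lift (𝟙 P) e).left.base p, ⟨e.left.base p, ?_⟩, ?_⟩
      · rw [← Scheme.Hom.comp_apply, ← Scheme.Hom.comp_apply, ← Over.comp_left, ← Over.comp_left,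
          lift_whiskerRight, Category.id_comp, comp_lift, Category.comp_id]
      · rw [← Scheme.Hom.comp_apply, ← Over.comp_left, lift_snd]; exact hex p
  rw [← himg]
  exact GrothLib.GenSubgrp14.isOpenMap_snd P X _ (hd.preimage (e ▷ X).left.continuous)

/-- The quotient by an open subgroup of a group scheme of finite type is finite. -/
theorem isFinite_of_isOpen [LocallyOfFiniteType G.hom] [QuasiCompact G.hom] (hX : AGF.IsQuotient i X a o)
    (hi : IsOpen (Set.range i.left.base)) : IsFinite X.hom := by
  haveI := discreteTopology_of_isOpen_range_diag (isOpen_range_diag hX hi)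
  obtain ⟨hlft, -, hsurj, -⟩ := hX
  haveI := hlft; haveI := hsurj
  haveI : CompactSpace G.left := QuasiCompact.compactSpace_of_compactSpace G.hom
  haveI : CompactSpace X.left :=
    (a.orbitMap o).left.surjective.compactSpace (a.orbitMap o).left.continuous
  haveI : Finite X.left := finite_of_compact_of_discrete
  haveI : LocallyQuasiFinite X.hom :=
    LocallyQuasiFinite.of_finite_preimage_singleton _ fun _ => Set.toFinite _
  haveI : QuasiCompact X.hom := inferInstance
  exact IsFinite.of_locallyQuasiFinite X.hom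

end GrothLib.FinQuot19
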